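import Mathlib.FieldTheory.PurelyInseparable.Tower
import Mathlib.FieldTheory.PurelyInseparable.PerfectClosure
import Mathlib.RingTheory.Etale.Field
import Mathlib.RingTheory.Unramified.Field
import Mathlib.RingTheory.Kaehler.Basic
import Mathlib.RingTheory.AlgebraicIndependent.TranscendenceBasis
import Mathlib.LinearAlgebra.Dimension.Finite

/-!
# A field killed by all differentials has inseparable degree at least `p ^ trdeg`
-/

universe u

open IntermediateField

namespace GrothLib.InsepDeg

/-- Generators of a finite purely inseparable extension, at most `log_p` of the degree many. -/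
theorem exists_generators {E F : Type u} [Field E] [Field F] [Algebra E F] [FiniteDimensional E F]
    [IsPurelyInseparable E F] (p : ℕ) [hp : Fact p.Prime] [CharP E p] (M : IntermediateField E F) :
    ∃ s : Finset F, M ⊔ adjoin E (s : Set F) = ⊤ ∧
      p ^ s.card * Module.finrank E M ≤ Module.finrank E F := by
  classical
  obtain ⟨n, hn⟩ : ∃ n, Module.finrank E F - Module.finrank E M = n := ⟨_, rfl⟩
  induction n using Nat.strong_induction_on generalizing M
  rename_i n ih
  by_cases hM : M = ⊤
  · subst hM
    exact ⟨∅, by simp, by simp [IntermediateField.finrank_top']⟩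
  obtain ⟨a, ha⟩ : ∃ a, a ∉ M := by
    by_contra h
    push Not at h
    exact hM (eq_top_iff.2 fun a _ => h a)
  haveI : ExpChar E p := ExpChar.prime hp.out
  let N := adjoin M ({a} : Set F)
  have hdeg : p ≤ Module.finrank M N := by
    have hint : IsIntegral M a := Algebra.IsIntegral.isIntegral a
    rw [adjoin.finrank hint]
    haveI : CharP M p := charP_of_injective_algebraMap (algebraMap E M).injective p
    haveI : ExpChar M p := ExpChar.prime hp.out
    haveI : IsPurelyInseparable M F := IsPurelyInseparable.tower_top E M F
    obtain ⟨k, y, hy⟩ := IsPurelyInseparable.minpoly_eq_X_pow_sub_C M p a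
    have hk : (minpoly M a).natDegree = p ^ k := by rw [hy, Polynomial.natDegree_X_pow_sub_C]
    rw [hk]
    refine le_self_pow₀ hp.out.one_lt.le fun h0 => ha ?_
    rw [h0, pow_zero, minpoly.natDegree_eq_one_iff] at hk
    obtain ⟨b, rfl⟩ := hk
    exact b.2
  let M' := N.restrictScalars E
  have hmul : Module.finrank E M * Module.finrank M N = Module.finrank E M' := Module.finrank_mul_finrank E M N
  have hle : Module.finrank E M' ≤ Module.finrank E F := M'.toSubmodule.finrank_le
  have hpos : 0 < Module.finrank E M := Module.finrank_pos
  have h2 : Module.finrank E M < Module.finrank E M' := by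
    rw [← hmul]
    exact lt_mul_of_one_lt_right hpos (hp.out.one_lt.trans_le hdeg)
  obtain ⟨s, hs, hcard⟩ := ih _ (by omega) M' rfl
  refine ⟨insert a s, ?_, ?_⟩
  · rw [eq_top_iff, ← hs]
    have hM' : M' = M ⊔ adjoin E ({a} : Set F) := by
      show (adjoin M ({a} : Set F)).restrictScalars E = _
      rw [IntermediateField.restrictScalars_adjoin_eq_sup]
    rw [hM', sup_assoc, ← adjoin_union, Finset.coe_insert, Set.insert_eq]
  · calc p ^ (insert a s).card * Module.finrank E M
        ≤ p ^ (s.card + 1) * Module.finrank E M :=
          Nat.mul_le_mul_right _ (Nat.pow_le_pow_right hp.out.pos (Finset.card_insert_le _ _))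
      _ = p ^ s.card * (Module.finrank E M * p) := by ring
      _ ≤ p ^ s.card * Module.finrank E M' := by
          rw [← hmul]
          exact Nat.mul_le_mul_left _ (Nat.mul_le_mul_left _ hdeg)
      _ ≤ _ := hcard

variable {K F : Type u} [Field K] [Field F] [Algebra K F]

/-- The elements with differential in a given subspace form a subfield. -/
noncomputable def killed (W : Submodule F Ω[F⁄K]) : Subfield F where
  carrier := {x | KaehlerDifferential.D K F x ∈ W}
  mul_mem' {x y} hx hy := by
    rw [Set.mem_ofPred_eq, Derivation.leibniz]
    exact W.add_mem (W.smul_mem _ hy) (W.smul_mem _ hx)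
  one_mem' := by simp
  add_mem' {x y} hx hy := by
    rw [Set.mem_ofPred_eq, map_add]
    exact W.add_mem hx hy
  zero_mem' := by simp
  neg_mem' {x} hx := by
    rw [Set.mem_ofPred_eq, map_neg]
    exact W.neg_mem hx
  inv_mem' x hx := by
    rw [Set.mem_ofPred_eq, Derivation.leibniz_inv]
    exact W.smul_mem _ hx

/-- The transcendence degree of a finitely generated extension is at most the number of
differentials needed to generate. -/
theorem trdeg_le [Algebra.EssFiniteType K F] (s : Finset F)
    (hs : Submodule.span F (KaehlerDifferential.D K F '' (s : Set F)) = ⊤) : Algebra.trdeg K F ≤ s.card := by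
  let M := adjoin K (s : Set F)
  haveI : Algebra.EssFiniteType M F := Algebra.EssFiniteType.of_comp K M F
  haveI : Subsingleton Ω[F⁄M] := by
    refine subsingleton_of_forall_eq 0 fun w => ?_
    obtain ⟨v, rfl⟩ := KaehlerDifferential.map_surjective K M F w
    have hle : (⊤ : Submodule F Ω[F⁄K]) ≤ LinearMap.ker (KaehlerDifferential.map K M F F) := by
      rw [← hs, Submodule.span_le]
      rintro _ ⟨x, hx, rfl⟩
      rw [SetLike.mem_coe, LinearMap.mem_ker, KaehlerDifferential.map_D]
      exact (KaehlerDifferential.D M F).map_algebraMap ⟨x, subset_adjoin K _ hx⟩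
    exact hle Submodule.mem_top
  haveI : Algebra.FormallyUnramified M F := ⟨inferInstance⟩
  haveI : Algebra.IsSeparable M F := Algebra.FormallyUnramified.isSeparable M F
  haveI : Algebra.IsAlgebraic (Algebra.adjoin K (s : Set F)) F := by
    open scoped IntermediateField.algebraAdjoinAdjoin in
    exact Algebra.IsAlgebraic.trans (Algebra.adjoin K (s : Set F)) M F
  obtain ⟨t, hts, ht⟩ := exists_isTranscendenceBasis_subset (R := K) (s : Set F)
  rw [← ht.cardinalMk_eq_trdeg, ← Cardinal.mk_coe_finset]
  exact Cardinal.mk_le_mk_of_subset hts

/-- If all differentials vanish on `L` and `F` has transcendence degree at least `g`, the separable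
degree of `F` over `L` is at most the degree divided by `p ^ g`. -/
theorem finSepDegree_mul_pow_le [Algebra.EssFiniteType K F] (L : Type u) [Field L] [Algebra L F]
    [FiniteDimensional L F] (p : ℕ) [hp : Fact p.Prime] [CharP F p]
    (hd : ∀ x : L, KaehlerDifferential.D K F (algebraMap L F x) = 0) {g : ℕ} (hg : (g : Cardinal) ≤ Algebra.trdeg K F) :
    Field.finSepDegree L F * p ^ g ≤ Module.finrank L F := by
  classical
  let E := separableClosure L F
  haveI : CharP L p := (RingHom.charP_iff (algebraMap L F) (algebraMap L F).injective p).2 ‹_›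
  haveI : CharP E p := (RingHom.charP_iff (algebraMap E F) (algebraMap E F).injective p).2 ‹_›
  obtain ⟨s, hs, hcard⟩ := exists_generators p (⊥ : IntermediateField E F)
  rw [IntermediateField.finrank_bot, mul_one, bot_sup_eq] at *
  have hE : ∀ x : E, KaehlerDifferential.D K F (x : F) = 0 := by
    haveI : IsScalarTower L E Ω[F⁄K] := IsScalarTower.of_algebraMap_smul fun r w => by
      rw [← IsScalarTower.algebraMap_smul F (algebraMap L E r) w, ← IsScalarTower.algebraMap_smul F r w,
        ← IsScalarTower.algebraMap_apply L E F]
    haveI : Algebra.IsSeparable L E := separableClosure.isSeparable L F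
    haveI : Algebra.FormallyUnramified L E := Algebra.FormallyUnramified.of_isSeparable L E
    let δ : Derivation L E Ω[F⁄K] :=
      { toFun := fun x => KaehlerDifferential.D K F (x : F)
        map_add' := fun x y => map_add _ _ _
        map_smul' := fun a x => by
          show KaehlerDifferential.D K F ((a • x : E) : F) = a • KaehlerDifferential.D K F (x : F)
          rw [← IsScalarTower.algebraMap_smul F a (KaehlerDifferential.D K F (x : F))]
          rw [show ((a • x : E) : F) = algebraMap L F a * x from Algebra.smul_def a (x : F), Derivation.leibniz,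
            hd, smul_zero, add_zero]
        map_one_eq_zero' := (KaehlerDifferential.D K F).map_one_eq_zero
        leibniz' := fun x y => (KaehlerDifferential.D K F).leibniz (x : F) (y : F) }
    intro x
    have h := δ.liftKaehlerDifferential_comp_D x
    rw [Subsingleton.elim ((KaehlerDifferential.D L E) x) 0, map_zero] at h
    exact h.symm
  have hspan : Submodule.span F (KaehlerDifferential.D K F '' (s : Set F)) = ⊤ := by
    set W := Submodule.span F (KaehlerDifferential.D K F '' (s : Set F))
    rw [eq_top_iff, ← KaehlerDifferential.span_range_derivation K F, Submodule.span_le]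
    rintro _ ⟨x, rfl⟩
    have hle : (adjoin E (s : Set F)).toSubfield ≤ killed W := by
      rw [adjoin_toSubfield, Subfield.closure_le]
      rintro y (⟨e, rfl⟩ | hy)
      · show KaehlerDifferential.D K F (e : F) ∈ W
        rw [hE]; exact W.zero_mem
      · exact Submodule.subset_span ⟨y, hy, rfl⟩
    exact hle (show x ∈ (adjoin E (s : Set F)).toSubfield by rw [hs]; trivial)
  have hgs : g ≤ s.card := Nat.cast_le.1 (hg.trans (trdeg_le s hspan))
  calc Field.finSepDegree L F * p ^ g ≤ Field.finSepDegree L F * p ^ s.card :=
        Nat.mul_le_mul_left _ (Nat.pow_le_pow_right hp.out.pos hgs)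
    _ ≤ Field.finSepDegree L F * Field.finInsepDegree L F := Nat.mul_le_mul_left _ hcard
    _ = _ := Field.finSepDegree_mul_finInsepDegree L F

end GrothLib.InsepDeg
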