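import Groth.Agent.Lib.InsepDeg.Basic
import Groth.Agent.Lib.AbTors.Degree
import Groth.Agent.Lib.AbMul.Tangent
import Groth.Agent.Lib.AffDom.PointDim
import Groth.Agent.Lib.Weight.GeomPoints
import Groth.Agent.Lib.Cube.Square
import Groth.Agent.Lib.SchPoints.AlgClosed
import Mathlib.FieldTheory.IsAlgClosed.AlgebraicClosure
import Mathlib.FieldTheory.SeparableDegree

/-!
# At most `p ^ g` points are killed by `p`
-/

universe u

open CategoryTheory CategoryTheory.Limits MonoidalCategory CartesianMonoidalCategory AlgebraicGeometry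
open scoped MonObj

set_option backward.isDefEq.respectTransparency false

noncomputable section

namespace GrothLib.InsepDeg

open GrothLib

/-- A morphism from the spectrum of a field is given by a point and a map of residue fields. -/
theorem exists_residue_factor {X : Scheme.{u}} {Ω : Type u} [Field Ω] (x : Spec (CommRingCat.of Ω) ⟶ X)
    {z : X} (hz : x (IsLocalRing.closedPoint Ω) = z) :
    ∃ ψ : X.residueField z ⟶ CommRingCat.of Ω, x = Spec.map ψ ≫ X.fromSpecResidueField z := by
  subst hz
  exact ⟨_, (Scheme.descResidueField_stalkClosedPointTo_fromSpecResidueField Ω X x).symm⟩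

variable {K : Type u} [Field K] (A : Over (Spec (CommRingCat.of K)))

theorem toRes_surjective_of_rational (e : 𝟙_ (Over (Spec (CommRingCat.of K))) ⟶ A) :
    Function.Surjective (AffDom.toRes A.hom (e.left (IsLocalRing.closedPoint K))) := by
  obtain ⟨g, hg⟩ := exists_residue_factor e.left (z := e.left (IsLocalRing.closedPoint K)) rfl
  set s : CommRingCat.of K ⟶ _ := Spec.preimage (A.left.fromSpecResidueField (e.left (IsLocalRing.closedPoint K)) ≫ A.hom)
  have hs : s ≫ g = 𝟙 _ := by
    apply Spec.map_injective
    rw [Spec.map_comp, Spec.map_preimage, Spec.map_id, ← Category.assoc, ← hg]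
    exact Over.w e
  intro r
  refine ⟨g r, (RingHom.injective g.hom) ?_⟩
  exact congrArg (fun t : CommRingCat.of K ⟶ CommRingCat.of K => t (g r)) hs

/-- Two points with values in a field landing on the same rational point are equal. -/
theorem ext_of_rational {Ω : Type u} [Field Ω] {σ : Spec (CommRingCat.of Ω) ⟶ Spec (CommRingCat.of K)}
    (x y : Over.mk σ ⟶ A) {z : A.left} (hs : Function.Surjective (AffDom.toRes A.hom z))
    (hx : x.left (IsLocalRing.closedPoint Ω) = z) (hy : y.left (IsLocalRing.closedPoint Ω) = z) : x = y := by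
  obtain ⟨a, ha⟩ := exists_residue_factor x.left hx
  obtain ⟨b, hb⟩ := exists_residue_factor y.left hy
  apply Over.OverMorphism.ext
  rw [ha, hb]
  have h := (Over.w x).trans (Over.w y).symm
  rw [ha, hb, Category.assoc, Category.assoc, ← Spec.map_preimage (A.left.fromSpecResidueField z ≫ A.hom),
    ← Spec.map_comp, ← Spec.map_comp] at h
  have h' := Spec.map_injective h
  refine congrArg (fun q => Spec.map q ≫ _) (CommRingCat.hom_ext (RingHom.ext fun r => ?_))
  obtain ⟨c, rfl⟩ := hs r
  exact congrArg (fun t : CommRingCat.of K ⟶ CommRingCat.of Ω => t c) h'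

theorem toRes_residueFieldMap (f : A ⟶ A) (a : A.left) :
    AffDom.toRes A.hom a = (f.left.residueFieldMap a).hom.comp (AffDom.toRes A.hom (f.left a)) := by
  show (Spec.preimage _).hom = (Spec.preimage _ ≫ f.left.residueFieldMap a).hom
  congr 1
  apply Spec.map_injective
  rw [Spec.map_preimage, Spec.map_comp, Spec.map_preimage, ← Category.assoc,
    Scheme.Hom.SpecMap_residueFieldMap_fromSpecResidueField, Category.assoc, Over.w]

variable [GrpObj A] [IsProper A.hom] [GeometricallyIntegral A.hom]

/-- At most `p ^ g` points of an abelian variety in characteristic `p` are killed by `p`. -/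
theorem encard_ker_pow_le (p : ℕ) [hp : Fact p.Prime] [CharP K p] {g : ℕ}
    (hg : topologicalKrullDim A.left = (g : WithBot ℕ∞)) :
    Set.encard {a : A.left | ((𝟙 A : A ⟶ A) ^ p).left a = η[A].left (IsLocalRing.closedPoint K)} ≤ (p ^ g : ℕ) := by
  haveI := Cube.isCommMonObj_abVar (A := A)
  haveI : IsIntegral A.left := GeometricallyIntegral.isIntegral_of_subsingleton A.hom
  haveI : IsLocallyNoetherian A.left := LocallyOfFiniteType.isLocallyNoetherian A.hom
  have hp0 : p ≠ 0 := hp.out.ne_zero
  haveI := Cube.isFinite_pow A hp0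
  haveI := Cube.surjective_pow A hp0
  haveI := Cube.flat_pow A hp0
  set P : A ⟶ A := (𝟙 A : A ⟶ A) ^ p with hP
  have hcomp : ∀ {T : Over (Spec (CommRingCat.of K))} (a : T ⟶ A), a ≫ P = a ^ p := fun a => by
    rw [hP, MonObj.comp_pow, Category.comp_id]
  haveI : LocallyOfFinitePresentation P.left := inferInstance
  let η₀ := genericPoint A.left
  have hη : P.left η₀ = η₀ := by
    obtain ⟨z, hz⟩ := P.left.surjective η₀
    have h1 : P.left η₀ ⤳ P.left z := ((genericPoint_spec A.left).specializes trivial).map P.left.continuous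
    rw [hz] at h1
    exact (h1.antisymm ((genericPoint_spec A.left).specializes trivial)).eq
  let F := A.left.residueField η₀
  let L := A.left.residueField (P.left η₀)
  letI algKF : Algebra K F := (AffDom.toRes A.hom η₀).toAlgebra
  letI algLF : Algebra L F := (P.left.residueFieldMap η₀).hom.toAlgebra
  haveI : CharP F p := charP_of_injective_algebraMap (algebraMap K F).injective p
  -- the degree
  have hdeg : Module.finrank L F = p ^ (2 * g) := by
    have h := (CurveMult.generic_finite_flat P.left hη).1 η₀
    rw [AbTors.finrank_pow A hg hp0] at h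
    exact h.symm
  haveI : FiniteDimensional L F := Module.finite_of_finrank_pos (by rw [hdeg]; exact pow_pos hp.out.pos _)
  -- the transcendence degree
  have htr : (g : Cardinal) ≤ Algebra.trdeg K F := by
    obtain ⟨m, hm, hm'⟩ := AffDom.exists_dim_closure A.hom η₀
    have h1 : closure ({η₀} : Set A.left) = Set.univ := (genericPoint_spec A.left).def
    rw [h1, (IsHomeomorph.topologicalKrullDim_eq _ (Homeomorph.Set.univ A.left).isHomeomorph), hg] at hm
    have hgm : g = m := by exact_mod_cast hm
    subst hgm
    exact (le_of_eq hm'.symm)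
  haveI : Algebra.EssFiniteType K F :=
    RingHom.essFiniteType_algebraMap.mp (SchPoints.essFiniteType_residueField A.hom η₀)
  -- the differentials
  let io : Spec F ⟶ A.left := A.left.fromSpecResidueField η₀
  let j : Spec (CommRingCat.of F) ⟶ Spec (CommRingCat.of K) := io ≫ A.hom
  have hd : ∀ x : L, KaehlerDifferential.D K F (algebraMap L F x) = 0 := by
    let M := Ω[F⁄K]
    letI : Module Fᵐᵒᵖ M := Module.compHom M ((RingHom.id F).fromOpposite fun a b => mul_comm a b)
    haveI : IsCentralScalar F M := ⟨fun r m => rfl⟩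
    let y : F →+* TrivSqZeroExt F M :=
      { toFun := fun a => TrivSqZeroExt.inl a + TrivSqZeroExt.inr (KaehlerDifferential.D K F a)
        map_one' := by ext <;> simp
        map_zero' := by ext <;> simp
        map_add' := fun a b => by ext <;> simp
        map_mul' := fun a b => by
          apply TrivSqZeroExt.ext
          · simp
          · simp only [TrivSqZeroExt.snd_mul, TrivSqZeroExt.fst_add, TrivSqZeroExt.snd_add, TrivSqZeroExt.fst_inl,
              TrivSqZeroExt.fst_inr, TrivSqZeroExt.snd_inl, TrivSqZeroExt.snd_inr, zero_add, add_zero,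
              op_smul_eq_smul, Derivation.leibniz] }
    let xs : AbMul.dual F M ⟶ A.left := AbMul.dualHom F M ≫ io
    let ys : AbMul.dual F M ⟶ A.left := Spec.map (CommRingCat.ofHom y) ≫ io
    have hys : ys ≫ A.hom = AbMul.dualHom F M ≫ j := by
      show (Spec.map _ ≫ io) ≫ A.hom = _ ≫ io ≫ A.hom
      rw [Category.assoc, ← Spec.map_preimage (io ≫ A.hom), ← Spec.map_comp, ← Spec.map_comp]
      refine congrArg Spec.map (CommRingCat.hom_ext (RingHom.ext fun r => ?_))
      show TrivSqZeroExt.inl (algebraMap K F r) + TrivSqZeroExt.inr (KaehlerDifferential.D K F (algebraMap K F r)) =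
        TrivSqZeroExt.inl (algebraMap K F r)
      simp
    let x' : AbMul.dualOver j M ⟶ A := Over.homMk xs (Category.assoc _ _ _)
    let y' : AbMul.dualOver j M ⟶ A := Over.homMk ys hys
    have hc : AbMul.overPt j ≫ (y' * x'⁻¹) = 1 := by
      have h : AbMul.overPt j ≫ y' = AbMul.overPt j ≫ x' := Over.OverMorphism.ext (by
        show AbMul.dualPt F M ≫ ys = AbMul.dualPt F M ≫ xs
        rw [← Spec.map_comp_assoc, ← Spec.map_comp_assoc]
        refine congrArg (fun q => Spec.map q ≫ io) (CommRingCat.hom_ext (RingHom.ext fun a => ?_))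
        show (TrivSqZeroExt.inl a + TrivSqZeroExt.inr (KaehlerDifferential.D K F a) : TrivSqZeroExt F M).fst =
          (TrivSqZeroExt.inl a : TrivSqZeroExt F M).fst
        simp)
      rw [MonObj.comp_mul, GrpObj.comp_inv, h, _root_.mul_inv_cancel]
    have h1 : (y' * x'⁻¹) ^ (p : ℤ) = 1 := AbMul.zpow_eq_one_of_cast_eq_zero j _ hc _ (by
      push_cast
      exact CharP.cast_eq_zero F p)
    rw [zpow_natCast, mul_pow, inv_pow, mul_inv_eq_one, ← hcomp, ← hcomp] at h1
    have h2 : ys ≫ P.left = xs ≫ P.left := congrArg Over.Hom.left h1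
    simp only [xs, ys, io, Category.assoc, ← Scheme.Hom.SpecMap_residueFieldMap_fromSpecResidueField,
      ← Spec.map_comp_assoc, cancel_mono] at h2
    intro a
    have h3 : (TrivSqZeroExt.inl (algebraMap L F a) + TrivSqZeroExt.inr (KaehlerDifferential.D K F (algebraMap L F a)) :
        TrivSqZeroExt F M).snd = (TrivSqZeroExt.inl (algebraMap L F a) : TrivSqZeroExt F M).snd :=
      congrArg TrivSqZeroExt.snd (RingHom.congr_fun (congrArg CommRingCat.Hom.hom (Spec.map_injective h2)) a)
    rwa [TrivSqZeroExt.snd_add, TrivSqZeroExt.snd_inl, TrivSqZeroExt.snd_inr, zero_add] at h3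
  have hsep : Field.finSepDegree L F ≤ p ^ g := by
    have h := finSepDegree_mul_pow_le (K := K) L p hd htr
    rw [hdeg, two_mul, pow_add] at h
    exact Nat.le_of_mul_le_mul_right h (pow_pos hp.out.pos _)
  -- the geometric points
  let Ω := AlgebraicClosure F
  let σ : Spec (CommRingCat.of Ω) ⟶ Spec (CommRingCat.of K) :=
    Spec.map (CommRingCat.ofHom (algebraMap F Ω)) ≫ j
  let e : Over.mk σ ⟶ A := Over.homMk (Spec.map (CommRingCat.ofHom (algebraMap F Ω)) ≫ io) (Category.assoc _ _ _)
  let T' := {x : Over.mk σ ⟶ A // x ≫ P = e ≫ P}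
  have hG : ∀ x : T', ∃ ψ : F →ₐ[L] Ω, x.1.left = Spec.map (CommRingCat.ofHom (R := F) ψ.toRingHom) ≫ io := by
    intro x
    have h : x.1.left ≫ P.left = e.left ≫ P.left := congrArg Over.Hom.left x.2
    have hz : x.1.left (IsLocalRing.closedPoint Ω) = η₀ := by
      have h1 : P.left (x.1.left (IsLocalRing.closedPoint Ω)) = P.left η₀ := by
        rw [← Scheme.Hom.comp_apply, h, Scheme.Hom.comp_apply]
        congr 1
        show (Spec.map _ ≫ io) _ = η₀
        rw [Scheme.Hom.comp_apply, Scheme.fromSpecResidueField_apply]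
      haveI : DiscreteTopology (P.left ⁻¹' {P.left η₀}) :=
        isDiscrete_iff_discreteTopology.mp (P.left.isDiscrete_preimage_singleton (P.left η₀))
      have hsp : (⟨η₀, rfl⟩ : P.left ⁻¹' {P.left η₀}) ⤳ ⟨x.1.left (IsLocalRing.closedPoint Ω), h1⟩ :=
        Topology.IsInducing.subtypeVal.specializes_iff.mp ((genericPoint_spec A.left).specializes trivial)
      exact (congrArg Subtype.val hsp.eq).symm
    obtain ⟨ψ, hψ⟩ := exists_residue_factor x.1.left hz
    have h' := h
    simp only [hψ, e, io, Over.homMk_left, Category.assoc, ← Scheme.Hom.SpecMap_residueFieldMap_fromSpecResidueField,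
      ← Spec.map_comp_assoc, cancel_mono] at h'
    exact ⟨{ ψ.hom with commutes' := fun l => congrArg (fun q => q l) (Spec.map_injective h') }, hψ⟩
  choose G hG using hG
  have hGinj : Function.Injective G := fun a b hab => Subtype.ext (Over.OverMorphism.ext (by rw [hG a, hG b, hab]))
  haveI : Finite (F →ₐ[L] Ω) := minpoly.AlgHom.fintype L F Ω |>.finite
  have hT' : Nat.card T' ≤ p ^ g := (Nat.card_le_card_of_injective G hGinj).trans hsep
  haveI : Finite T' := Finite.of_injective G hGinj
  -- the kernel
  let e₁ := η[A].left (IsLocalRing.closedPoint K)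
  have hs : Function.Surjective (AffDom.toRes A.hom e₁) := toRes_surjective_of_rational A η[A]
  have hS : ∀ a : {a : A.left | P.left a = e₁}, ∃ x : Over.mk σ ⟶ A, x ^ p = 1 ∧
      x.left (IsLocalRing.closedPoint Ω) = (a : A.left) := by
    rintro ⟨a, ha⟩
    have ha' : P.left a = e₁ := ha
    letI : Algebra K (A.left.residueField a) := (AffDom.toRes A.hom a).toAlgebra
    haveI : Module.Finite K (A.left.residueField a) := by
      rw [← RingHom.finite_algebraMap]
      show (AffDom.toRes A.hom a).Finite
      rw [toRes_residueFieldMap A P a]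
      refine (Weight.finite_residueFieldMap P.left a).comp (RingHom.Finite.of_surjective _ ?_)
      rw [ha']
      exact hs
    letI : Algebra K Ω := (Spec.preimage σ).hom.toAlgebra
    let χ : A.left.residueField a →ₐ[K] Ω := IsAlgClosed.lift
    let x : Over.mk σ ⟶ A := Over.homMk (Spec.map (CommRingCat.ofHom χ.toRingHom) ≫ A.left.fromSpecResidueField a) (by
      show _ = σ
      rw [← Spec.map_preimage σ, Category.assoc, ← Spec.map_preimage (A.left.fromSpecResidueField a ≫ A.hom),
        ← Spec.map_comp]
      exact congrArg Spec.map (CommRingCat.hom_ext (RingHom.ext χ.commutes)))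
    have hx : x.left (IsLocalRing.closedPoint Ω) = a := by
      show (Spec.map _ ≫ _) _ = a
      rw [Scheme.Hom.comp_apply]
      exact Scheme.fromSpecResidueField_apply a _
    refine ⟨x, ext_of_rational A _ _ hs ?_ ?_, hx⟩
    · rw [← hcomp, Over.comp_left, Scheme.Hom.comp_apply, hx]
      exact ha
    · show (toUnit (Over.mk σ) ≫ η[A]).left _ = e₁
      rw [Over.comp_left, Scheme.Hom.comp_apply]
      exact congrArg η[A].left (Subsingleton.elim (α := ↥(Spec (CommRingCat.of K))) _ _)
  choose x hx hxa using hS
  let Φ : {a : A.left | P.left a = e₁} → T' := fun a => ⟨e * x a, by rw [hcomp, hcomp, mul_pow, hx a, _root_.mul_one]⟩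
  have hΦ : Function.Injective Φ := fun a b hab => Subtype.ext (by
    rw [← hxa a, ← hxa b, mul_left_cancel (congrArg Subtype.val hab)])
  calc Set.encard {a : A.left | P.left a = e₁} ≤ ENat.card T' := ENat.card_le_card_of_injective hΦ
    _ = (Nat.card T' : ℕ∞) := ENat.card_eq_coe_natCard T'
    _ ≤ _ := by exact_mod_cast hT'

end GrothLib.InsepDeg
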